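/-
Strict extension of maps along termwise monomorphic quasi-isomorphisms into K-injective complexes
with injective terms.
-/
import Mathlib.Algebra.Homology.DerivedCategory.KInjective
import Mathlib.Algebra.Homology.Double
import Mathlib.Algebra.Homology.HomologySequenceLemmas

open CategoryTheory Limits

universe v u

namespace Groth.Agent.KInjExt.Basic

variable {A : Type u} [Category.{v} A] [Abelian A]

attribute [local instance] HasDerivedCategory.standard in
theorem exists_homotopy_desc {K L I : CochainComplex A ℤ} (α : K ⟶ L) [QuasiIso α] [I.IsKInjective]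
    (γ : K ⟶ I) : ∃ β : L ⟶ I, Nonempty (Homotopy γ (α ≫ β)) := by
  let q := HomotopyCategory.quotient A (ComplexShape.up ℤ)
  let e := DerivedCategory.quotientCompQhIso A
  have hα : IsIso (DerivedCategory.Qh.map (q.map α)) :=
    (NatIso.isIso_map_iff e α).2 inferInstance
  obtain ⟨b, hb⟩ := (CochainComplex.IsKInjective.Qh_map_bijective (q.obj L) I).2
    (inv (DerivedCategory.Qh.map (q.map α)) ≫ DerivedCategory.Qh.map (q.map γ))
  obtain ⟨β, rfl⟩ := q.map_surjective b
  refine ⟨β, ⟨HomotopyCategory.homotopyOfEq _ _ ?_⟩⟩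
  apply (CochainComplex.IsKInjective.Qh_map_bijective (q.obj K) I).1
  rw [Functor.map_comp, Functor.map_comp, hb, IsIso.hom_inv_id_assoc]

/-- Extension along a termwise monomorphic quasi-isomorphism. -/
theorem exists_desc {K L I : CochainComplex A ℤ} (α : K ⟶ L) [QuasiIso α] [∀ n, Mono (α.f n)]
    [I.IsKInjective] [∀ n, Injective (I.X n)] (γ : K ⟶ I) : ∃ β : L ⟶ I, α ≫ β = γ := by
  obtain ⟨β, ⟨h⟩⟩ := exists_homotopy_desc α γ
  refine ⟨β + Homotopy.nullHomotopicMap (fun i j => Injective.factorThru (h.hom i j) (α.f i)), ?_⟩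
  rw [Preadditive.comp_add, Homotopy.comp_nullHomotopicMap]
  ext i
  rw [HomologicalComplex.add_f_apply, h.comm i, add_comm]
  simp [Homotopy.nullHomotopicMap]

/-- The extension property implies injective terms. -/
theorem injective_of_lifting {I : CochainComplex A ℤ}
    (h : ∀ (S : ShortComplex (CochainComplex A ℤ)), S.ShortExact → S.X₃.Acyclic →
      ∀ φ : S.X₁ ⟶ I, ∃ ψ : S.X₂ ⟶ I, S.f ≫ ψ = φ) (n : ℤ) : Injective (I.X n) := by
  refine ⟨fun {X Y} g f _ => ?_⟩
  have hr : (ComplexShape.up ℤ).Rel n (n + 1) := rfl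
  have hne : n ≠ n + 1 := by omega
  let D := fun Z : A => HomologicalComplex.double (𝟙 Z) hr
  let φ₀ : X ⟶ (D Y).X n := f ≫ (HomologicalComplex.doubleXIso₀ (𝟙 Y) hr).inv
  let i : D X ⟶ D Y := HomologicalComplex.mkHomFromDouble hr hne φ₀ (φ₀ ≫ (D Y).d n (n + 1))
    (Category.id_comp _).symm (fun k _ => by rw [Category.assoc, (D Y).d_comp_d, comp_zero])
  let φg : D X ⟶ I := HomologicalComplex.mkHomFromDouble hr hne g (g ≫ I.d n (n + 1))
    (Category.id_comp _).symm (fun k _ => by rw [Category.assoc, I.d_comp_d, comp_zero])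
  have key : ∀ {Z : A} {K : CochainComplex A ℤ} (φ : D Z ⟶ K),
      φ.f (n + 1) = (HomologicalComplex.doubleXIso₁ (𝟙 Z) hr hne).hom ≫
        ((HomologicalComplex.doubleXIso₀ (𝟙 Z) hr).inv ≫ φ.f n) ≫ K.d n (n + 1) := by
    intro Z K φ
    rw [Category.assoc, φ.comm, HomologicalComplex.double_d _ _ hne]
    simp
  have hacyclic : ∀ Z, (D Z).Acyclic := by
    intro Z j
    by_cases h0 : j = n
    · subst h0
      rw [HomologicalComplex.exactAt_iff' _ (j - 1) j (j + 1) (by simp) (by simp),
        ShortComplex.exact_iff_mono _ (HomologicalComplex.double_d_eq_zero₁ (𝟙 Z) hr _ _ hne)]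
      show Mono ((D Z).d j (j + 1))
      rw [HomologicalComplex.double_d _ _ hne]
      infer_instance
    · by_cases h1 : j = n + 1
      · subst h1
        rw [HomologicalComplex.exactAt_iff' _ n (n + 1) (n + 2) (by simp) (by simp; ring),
          ShortComplex.exact_iff_epi _ (HomologicalComplex.double_d_eq_zero₀ (𝟙 Z) hr _ _ hne.symm)]
        show Epi ((D Z).d n (n + 1))
        rw [HomologicalComplex.double_d _ _ hne]
        infer_instance
      · rw [HomologicalComplex.exactAt_iff]
        exact ShortComplex.exact_of_isZero_X₂ _ (HomologicalComplex.isZero_double_X (𝟙 _) hr j h0 h1)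
  have hi0 : i.f n = (HomologicalComplex.doubleXIso₀ (𝟙 X) hr).hom ≫ f ≫
      (HomologicalComplex.doubleXIso₀ (𝟙 Y) hr).inv :=
    HomologicalComplex.mkHomFromDouble_f₀ _ _ _ _ _ _
  have hmono : ∀ j, Mono (i.f j) := by
    intro j
    by_cases h0 : j = n
    · subst h0
      rw [hi0]
      infer_instance
    · by_cases h1 : j = n + 1
      · subst h1
        rw [key i, hi0, HomologicalComplex.double_d _ _ hne]
        simp only [Category.assoc, Iso.inv_hom_id_assoc, Category.id_comp]
        infer_instance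
      · exact ⟨fun _ _ _ => (HomologicalComplex.isZero_double_X (𝟙 _) hr j h0 h1).eq_of_tgt _ _⟩
  have : Mono i := HomologicalComplex.mono_of_mono_f i hmono
  have hS : (ShortComplex.mk i (cokernel.π i) (cokernel.condition i)).ShortExact :=
    ShortComplex.ShortExact.mk' (ShortComplex.exact_cokernel i) this inferInstance
  have : QuasiIso i := ⟨fun j => by
    rw [quasiIsoAt_iff_exactAt' i j (hacyclic Y j)]
    exact hacyclic X j⟩
  obtain ⟨ψ, hψ⟩ := h _ hS (hS.acyclic_X₃ this) φg
  refine ⟨(HomologicalComplex.doubleXIso₀ (𝟙 Y) hr).inv ≫ ψ.f n, ?_⟩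
  have := congrArg (fun φ : D X ⟶ I => (HomologicalComplex.doubleXIso₀ (𝟙 X) hr).inv ≫ φ.f n) hψ
  have hg : φg.f n = (HomologicalComplex.doubleXIso₀ (𝟙 X) hr).hom ≫ g :=
    HomologicalComplex.mkHomFromDouble_f₀ _ _ _ _ _ _
  simpa [hi0, hg] using this

/-- The extension property implies K-injectivity. -/
theorem isKInjective_of_lifting {I : CochainComplex A ℤ}
    (h : ∀ (S : ShortComplex (CochainComplex A ℤ)), S.ShortExact → S.X₃.Acyclic →
      ∀ φ : S.X₁ ⟶ I, ∃ ψ : S.X₂ ⟶ I, S.f ≫ ψ = φ) : I.IsKInjective where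
  nonempty_homotopy_zero {K} f hK := by
    let ι := CochainComplex.mappingCone.inr (𝟙 K)
    have : Mono ι := HomologicalComplex.mono_of_mono_f ι (fun p =>
      (⟨⟨(CochainComplex.mappingCone.snd (𝟙 K)).v p p (add_zero _),
        CochainComplex.mappingCone.inr_f_snd_v _ _⟩⟩ : IsSplitMono (ι.f p)).mono)
    have hS : (ShortComplex.mk ι (cokernel.π ι) (cokernel.condition ι)).ShortExact :=
      ShortComplex.ShortExact.mk' (ShortComplex.exact_cokernel ι) this inferInstance
    let hz := CochainComplex.mappingCone.homotopyToZeroOfId K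
    have : QuasiIso ι := ⟨fun j => by
      rw [quasiIsoAt_iff_exactAt ι j (hK j), HomologicalComplex.exactAt_iff_isZero_homology,
        IsZero.iff_id_eq_zero, ← HomologicalComplex.homologyMap_id, hz.homologyMap_eq j,
        HomologicalComplex.homologyMap_zero]⟩
    obtain ⟨ψ, hψ⟩ := h _ hS (hS.acyclic_X₃ this) f
    exact ⟨((Homotopy.ofEq (by rw [Category.id_comp]; exact hψ.symm)).trans
      ((hz.compRight ψ).compLeft ι)).trans (Homotopy.ofEq (by simp))⟩

end Groth.Agent.KInjExt.Basic
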